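import Cfsg.Agent.H495.LB.Sev
import Cfsg.Agent.H676.Deg.LocM
import Cfsg.Agent.S3331

/-!
# The columns of tool (R) for the Monster, `r = 17` (helper495, for S4879)

`seventeen` : the three columns (characters of degree 1, 8, 6 of `L₃(2)`), orthogonal to the rows of `B₀(11)`.
-/

set_option autoImplicit false
set_option maxRecDepth 100000

namespace Cfsg.Agent.H495.LB.MSev

open Cfsg Subgroup
open Cfsg.Agent.SmallSimple.ThetaSetup
open Cfsg.Agent.H241.NH Cfsg.Agent.H241.Mon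
open Cfsg.Agent.H676.Deg Cfsg.Agent.H676.Deg.LocM

theorem local17 : ∃ (_ : Fact (Nat.Prime 17)) (P : Sylow 17 Gam) (K : Subgroup Gam), Nat.card P = 17 ∧
    IsComp 17 (P : Subgroup Gam) K ∧ Nat.card K = 168 ∧ IsSimpleGroup K ∧ H442.ZerosSmall.Deg7 K ∧
    (centralizer ((P : Subgroup Gam) : Set Gam)).relIndex (normalizer ((P : Subgroup Gam) : Set Gam)) = 16 := by
  have h3 : Cfsg.Agent.H715.Mon.Grp.SThree.{0} := fun _ _ _ X hX hC => S3331.result X hX hC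
  have h17 := RowM.fact17
  have hs17 : ¬ 17 ^ 2 ∣ Nat.card Gam := by rw [card_G]; norm_num
  obtain ⟨y, hy⟩ := exists_prime_orderOf_dvd_card' (G := Gam) 17 (by rw [card_G]; norm_num)
  obtain ⟨P, K, -, h4, h5, h6, ⟨e⟩⟩ := exists_K hs17 hy (c := 168) (by rw [Cfsg.Agent.H715.Mon.Exact.card17 h3 hy])
  obtain ⟨f⟩ := Cfsg.Agent.H715.Mon.Norm.iso17 h3 hy
  have hsim := Cfsg.Agent.H377.TwoConv.simple_L7
  have hfin : Finite (Matrix.ProjectiveSpecialLinearGroup (Fin 2) (ZMod 7)) := Finite.of_equiv _ f.toEquiv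
  exact ⟨h17, P, K, h4, h5, h6, (e.trans f).isSimpleGroup,
    deg7_congr (e.trans f).symm (H442.ZerosSmall.deg7 (ZMod.card 7)),
    (Cfsg.Agent.H715.Mon.Norm.relIndex_eq (by norm_num) hs17
      (fun _ hx => Cfsg.Agent.H715.Mon.Exact.card17 h3 hx) (e := 16) (by norm_num) (by rw [card_G]) h4).1⟩

/-- **The columns at 17.** -/
theorem seventeen {p : ℕ} {M : Ideal AlgInt} (hM : IsPModular p M) (hp : p ≠ 17) (hp168 : ¬ p ∣ 168) {c : ℕ} {x : Gam}
    {q : IrrCharacter Gam → Fin c → ℤ} {f : Fin c → centralizer ({x} : Set Gam) → ℂ} (D : RowsP p M x q f) :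
    ∃ a : Fin 3 → IrrCharacter Gam → ℤ, Sev Gam a ∧ ∀ i j, ∑ᶠ χ ∈ principalBlock M Gam, a i χ * q χ j = 0 := by
  obtain ⟨_, P, K, h1, h2, h3, h4, h5, h6⟩ := local17
  exact exists_cols h2 h1 h3 h4 h5 h6 hM hp hp168 D

end Cfsg.Agent.H495.LB.MSev
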